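import Mathlib.RingTheory.IntegralClosure.IntegrallyClosed
import Mathlib.RingTheory.Localization.Integral
import Mathlib.RingTheory.Localization.LocalizationLocalization
import Mathlib.RingTheory.Localization.AtPrime.Basic

set_option autoImplicit false
set_option linter.style.haveILetI false
set_option linter.unusedSectionVars false
universe u

namespace Groth.Agent.H14.NormalLocus

open nonZeroDivisors

/-- Elementwise criterion for a localization of a domain to be integrally closed. -/
theorem isIntegrallyClosed_localization_iff {R : Type u} [CommRing R] [IsDomain R]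
    (S : Type u) [CommRing S] [Algebra R S] (M : Submonoid R) (hM : M ≤ R⁰) [IsLocalization M S] :
    IsIntegrallyClosed S ↔ ∀ y : FractionRing R, IsIntegral R y →
      ∃ s ∈ M, ∃ r : R, algebraMap R (FractionRing R) s * y = algebraMap R (FractionRing R) r := by
  let K := FractionRing R
  let g : S →+* K := IsLocalization.map _ (T := R⁰) (RingHom.id R) hM
  letI := g.toAlgebra
  haveI : IsScalarTower R S K := IsScalarTower.of_algebraMap_eq'
    (by rw [RingHom.algebraMap_toAlgebra, IsLocalization.map_comp, RingHomCompTriple.comp_eq])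
  haveI := IsFractionRing.isFractionRing_of_isDomain_of_isLocalization M S K
  haveI : IsDomain S := IsLocalization.isDomain_of_le_nonZeroDivisors _ hM
  constructor
  · intro hS y hy
    have hy' : IsIntegral S y := hy.tower_top
    obtain ⟨z, hz⟩ := (isIntegrallyClosed_iff K).mp hS hy'
    obtain ⟨r, s, rfl⟩ := IsLocalization.exists_mk'_eq M z
    refine ⟨s, s.2, r, ?_⟩
    rw [← hz, IsScalarTower.algebraMap_apply R S K, IsScalarTower.algebraMap_apply R S K,
      ← map_mul, IsLocalization.mk'_spec']
  · intro h
    refine (isIntegrallyClosed_iff K).mpr ?_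
    intro x hx
    obtain ⟨⟨m, hm⟩, hy⟩ := hx.exists_multiple_integral_of_isLocalization M _
    obtain ⟨s, hs, r, hr⟩ := h _ hy
    refine ⟨IsLocalization.mk' S r (⟨s, hs⟩ * ⟨m, hm⟩ : M), ?_⟩
    have hne : algebraMap R K ((⟨s, hs⟩ * ⟨m, hm⟩ : M) : R) ≠ 0 := by
      have := hM (⟨s, hs⟩ * ⟨m, hm⟩ : M).2
      exact (map_ne_zero_iff _ (IsFractionRing.injective R K)).mpr (nonZeroDivisors.ne_zero this)
    apply mul_left_cancel₀ hne
    have h1 : algebraMap R K ((⟨s, hs⟩ * ⟨m, hm⟩ : M) : R) *
        algebraMap S K (IsLocalization.mk' S r (⟨s, hs⟩ * ⟨m, hm⟩ : M)) = algebraMap R K r := by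
      rw [IsScalarTower.algebraMap_apply R S K, ← map_mul, IsLocalization.mk'_spec',
        ← IsScalarTower.algebraMap_apply]
    have h2 : algebraMap R K ((⟨s, hs⟩ * ⟨m, hm⟩ : M) : R) * x = algebraMap R K r := by
      rw [← hr, Submonoid.coe_mul, map_mul, mul_assoc, Submonoid.mk_smul, Algebra.smul_def]
    rw [h1, h2]

end Groth.Agent.H14.NormalLocus
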