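import Groth.Agent.H14.NormalLocus.Core
import Groth.Agent.H14.NormalFlatAscent

set_option autoImplicit false
set_option linter.style.haveILetI false
set_option linter.unusedSectionVars false
universe u

namespace Groth.Agent.H14.NormalLocus

open nonZeroDivisors

section

variable {R : Type u} [CommRing R] [IsDomain R] [IsNoetherianRing R] (f : R) (hf : f ≠ 0)
  (p : Ideal R) [p.IsPrime]
  (h : ∀ q : Ideal R, q ∈ associatedPrimes R (R ⧸ Ideal.span {f}) → q ≤ p →
    ∀ y : FractionRing R, IsIntegral R y → ∃ s ∉ q, ∃ r : R,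
      algebraMap R (FractionRing R) s * y = algebraMap R (FractionRing R) r)

include hf h in
theorem exists_denominator_of_pow_mul (n : ℕ) : ∀ (y : FractionRing R), IsIntegral R y → ∀ (r₀ : R),
    algebraMap R (FractionRing R) (f ^ n) * y = algebraMap R (FractionRing R) r₀ →
    ∃ s ∉ p, ∃ r : R, algebraMap R (FractionRing R) s * y = algebraMap R (FractionRing R) r := by
  induction n with
  | zero =>
    intro y _ r₀ hr₀
    refine ⟨1, fun h1 => (Ideal.IsPrime.ne_top ‹_›) ((Ideal.eq_top_iff_one _).mpr h1), r₀, ?_⟩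
    simpa using hr₀
  | succ n ih =>
    intro y hy r₀ hr₀
    have hy' : IsIntegral R (algebraMap R (FractionRing R) (f ^ n) * y) :=
      isIntegral_algebraMap.mul hy
    obtain ⟨s', hs', r', hr'⟩ := exists_denominator_of_mul f hf p h _ hy' r₀
      (by rw [← mul_assoc, ← map_mul, ← pow_succ']; exact hr₀)
    have hy'' : IsIntegral R (algebraMap R (FractionRing R) s' * y) :=
      isIntegral_algebraMap.mul hy
    obtain ⟨s'', hs'', r'', hr''⟩ := ih _ hy'' r' (by rw [← hr']; ring)
    refine ⟨s'' * s', fun hmem => ?_, r'', by rw [map_mul, mul_assoc, hr'']⟩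
    rcases Ideal.IsPrime.mem_or_mem ‹_› hmem with h1 | h1
    · exact hs'' h1
    · exact hs' h1

end

/-- If `R_f` is integrally closed and `R_q` is integrally closed for all `q ∈ Ass(R/fR)` inside `p`,
then `R_p` is integrally closed. -/
theorem isIntegrallyClosed_localization_of_associatedPrimes {R : Type u} [CommRing R] [IsDomain R]
    [IsNoetherianRing R] (f : R) (hf : f ≠ 0) (hn : IsIntegrallyClosed (Localization.Away f))
    (p : Ideal R) [p.IsPrime]
    (h : ∀ q : PrimeSpectrum R, q.asIdeal ∈ associatedPrimes R (R ⧸ Ideal.span {f}) →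
      q.asIdeal ≤ p → IsIntegrallyClosed (Localization.AtPrime q.asIdeal)) :
    IsIntegrallyClosed (Localization.AtPrime p) := by
  have hpowers : Submonoid.powers f ≤ R⁰ :=
    Submonoid.powers_le.mpr (mem_nonZeroDivisors_of_ne_zero hf)
  rw [isIntegrallyClosed_localization_iff (Localization.AtPrime p) p.primeCompl
    p.primeCompl_le_nonZeroDivisors]
  intro y hy
  obtain ⟨s, ⟨n, rfl⟩, r₀, hr₀⟩ :=
    (isIntegrallyClosed_localization_iff (Localization.Away f) (Submonoid.powers f) hpowers).mp
      hn y hy
  refine exists_denominator_of_pow_mul f hf p ?_ n y hy r₀ hr₀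
  intro q hq hqp y' hy'
  haveI : q.IsPrime := hq.isPrime
  have := h ⟨q, inferInstance⟩ hq hqp
  exact (isIntegrallyClosed_localization_iff (Localization.AtPrime q) q.primeCompl
    q.primeCompl_le_nonZeroDivisors).mp this y' hy'

theorem isOpen_normalLocus (R : Type u) [CommRing R] [IsDomain R] [IsNoetherianRing R] (f : R)
    (hf : f ≠ 0) (hn : IsIntegrallyClosed (Localization.Away f)) :
    IsOpen {p : PrimeSpectrum R | IsIntegrallyClosed (Localization.AtPrime p.asIdeal)} := by
  rw [← isClosed_compl_iff]
  set T : Set (PrimeSpectrum R) := {q | q.asIdeal ∈ associatedPrimes R (R ⧸ Ideal.span {f}) ∧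
    ¬ IsIntegrallyClosed (Localization.AtPrime q.asIdeal)} with hT
  have hTfin : T.Finite := by
    have h1 : (PrimeSpectrum.asIdeal ⁻¹' associatedPrimes R (R ⧸ Ideal.span {f})).Finite :=
      (associatedPrimes.finite R (R ⧸ Ideal.span {f})).preimage
        (fun a _ b _ hab => PrimeSpectrum.ext hab)
    exact h1.subset fun q hq => hq.1
  have hset : {p : PrimeSpectrum R | IsIntegrallyClosed (Localization.AtPrime p.asIdeal)}ᶜ =
      ⋃ q ∈ T, PrimeSpectrum.zeroLocus (q.asIdeal : Set R) := by
    ext p
    simp only [Set.mem_compl_iff, Set.mem_ofPred_eq, Set.mem_iUnion, PrimeSpectrum.mem_zeroLocus,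
      SetLike.coe_subset_coe, exists_prop]
    constructor
    · intro hp
      by_contra hcon
      push Not at hcon
      apply hp
      apply isIntegrallyClosed_localization_of_associatedPrimes f hf hn p.asIdeal
      intro q hq hqp
      by_contra hqn
      exact hcon q ⟨hq, hqn⟩ hqp
    · rintro ⟨q, ⟨-, hqn⟩, hqp⟩ hp
      apply hqn
      haveI := hp
      exact (isDomain_isIntegrallyClosed_localization_of_le p.asIdeal q.asIdeal hqp).2
  rw [hset]
  exact hTfin.isClosed_biUnion fun q _ => PrimeSpectrum.isClosed_zeroLocus _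

end Groth.Agent.H14.NormalLocus
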