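import Groth.Agent.H14.NormalLocus.Crit
import Mathlib.RingTheory.Ideal.AssociatedPrime.Localization
import Mathlib.RingTheory.Ideal.AssociatedPrime.Finiteness
import Mathlib.RingTheory.Spectrum.Prime.Topology

set_option autoImplicit false
set_option linter.style.haveILetI false
set_option linter.unusedSectionVars false
universe u

namespace Groth.Agent.H14.NormalLocus

open nonZeroDivisors

section

variable {R : Type u} [CommRing R] [IsDomain R] [IsNoetherianRing R] (f : R) (hf : f ≠ 0)
  (p : Ideal R) [p.IsPrime]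
  (h : ∀ q : Ideal R, q ∈ associatedPrimes R (R ⧸ Ideal.span {f}) → q ≤ p →
    ∀ y : FractionRing R, IsIntegral R y → ∃ s ∉ q, ∃ r : R,
      algebraMap R (FractionRing R) s * y = algebraMap R (FractionRing R) r)

include hf h in
/-- the core step: one power of `f` in the denominator. -/
theorem exists_denominator_of_mul (y : FractionRing R) (hy : IsIntegral R y) (r₀ : R)
    (hr₀ : algebraMap R (FractionRing R) f * y = algebraMap R (FractionRing R) r₀) :
    ∃ s ∉ p, ∃ r : R, algebraMap R (FractionRing R) s * y = algebraMap R (FractionRing R) r := by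
  have hf' : algebraMap R (FractionRing R) f ≠ 0 := by simpa using hf
  have hinj := IsFractionRing.injective R (FractionRing R)
  by_contra hcon
  push Not at hcon
  -- the denominator ideal
  let J : Ideal R :=
    { carrier := {s | ∃ r : R, algebraMap R (FractionRing R) s * y = algebraMap R (FractionRing R) r}
      add_mem' := by
        rintro a b ⟨ra, ha⟩ ⟨rb, hb⟩
        exact ⟨ra + rb, by rw [map_add, add_mul, ha, hb, map_add]⟩
      zero_mem' := ⟨0, by simp⟩
      smul_mem' := by
        rintro c a ⟨ra, ha⟩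
        exact ⟨c * ra, by rw [smul_eq_mul, map_mul, mul_assoc, ha, map_mul]⟩ }
  have hJp : J ≤ p := by
    intro s hs
    by_contra hsp
    obtain ⟨r, hr⟩ := hs
    exact hcon s hsp r hr
  have hJ : ∀ s : R, s ∈ J ↔ f ∣ s * r₀ := by
    intro s
    constructor
    · rintro ⟨r, hr⟩
      refine ⟨r, hinj ?_⟩
      rw [map_mul, map_mul, ← hr₀, ← hr]
      ring
    · rintro ⟨r, hr⟩
      refine ⟨r, mul_left_cancel₀ hf' ?_⟩
      rw [← map_mul, ← hr, map_mul, ← hr₀]
      ring
  obtain ⟨Q, hQmin, hQp⟩ := Ideal.exists_minimalPrimes_le hJp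
  haveI hQprime : Q.IsPrime := hQmin.1.1
  have hQass : Q ∈ associatedPrimes R (R ⧸ J) := by
    apply Module.associatedPrimes.minimalPrimes_annihilator_subset_associatedPrimes R (R ⧸ J)
    rwa [Ideal.annihilator_quotient]
  obtain ⟨-, x, hx⟩ := isAssociatedPrime_iff.mp hQass
  obtain ⟨x, rfl⟩ := Ideal.Quotient.mk_surjective x
  have hQmem : ∀ s : R, s ∈ Q ↔ s * x ∈ J := by
    intro s
    rw [hx, Submodule.mem_colon_singleton, Submodule.mem_bot, Algebra.smul_def,
      Ideal.Quotient.algebraMap_eq, ← map_mul, Ideal.Quotient.eq_zero_iff_mem]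
  have hQass' : Q ∈ associatedPrimes R (R ⧸ Ideal.span {f}) := by
    refine isAssociatedPrime_iff.mpr ⟨hQprime, Ideal.Quotient.mk _ (x * r₀), ?_⟩
    ext s
    rw [hQmem, hJ, Submodule.mem_colon_singleton, Submodule.mem_bot, Algebra.smul_def,
      Ideal.Quotient.algebraMap_eq, ← map_mul, Ideal.Quotient.eq_zero_iff_mem,
      Ideal.mem_span_singleton, mul_assoc]
  obtain ⟨s, hsQ, r, hr⟩ := h Q hQass' hQp y hy
  exact hsQ (hQmin.1.2 ⟨r, hr⟩)

end

end Groth.Agent.H14.NormalLocus
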